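import Cfsg.Agent.ChevalleyStructure.Elts
import Cfsg.Agent.ChevalleyStructure.Columns

/-!
# S5920, task NOFIX (helper834): the adjoint module of `E₈(3)` has no fixed vectors

If `x_r(1) v = v` for all roots `r`, the Cartan part of `x_r(1) v - v` is `v_{-r} h_r`, and `h_r ≠ 0` modulo 3: all root
coordinates of `v` vanish; then the coordinate at `r` gives `∑ A_{p_i, r} v_i = 0`, and the Cartan matrix is invertible.
-/

set_option autoImplicit false

namespace Cfsg.Agent.H834.E8

open Cfsg Cfsg.Lie Cfsg.Agent.ChevalleyStructure.Elts Cfsg.Agent.ChevalleyStructure.Columns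

theorem inList : InList chevE8 := by simp

theorem xG_mem (r : Fin chevE8.nroots) (t : ZMod 3) : xG inList r.val t ∈ chevE8.group (ZMod 3) :=
  Subgroup.subset_closure ⟨r, t, by rw [coe_xG, x_of_lt r.isLt]⟩

/-- `s = -(rev s)`, and the coroot of `rev s` is not zero modulo 3 -/
theorem coroot_ne : ∀ s : Fin 240, s.val = chevE8.negIdx.getD (Fin.rev s).val 0 ∧ s ≠ Fin.rev s ∧
    ∃ i : Fin 8, ((cor chevE8 (Fin.rev s).val i.val : ℤ) : ZMod 3) ≠ 0 := by
  decide +kernel

/-- the inverse of the Cartan matrix -/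
def invC : Fin 8 → Fin 8 → ZMod 3 :=
  ![![4, 5, 7, 10, 8, 6, 4, 2], ![5, 8, 10, 15, 12, 9, 6, 3], ![7, 10, 14, 20, 16, 12, 8, 4],
    ![10, 15, 20, 30, 24, 18, 12, 6], ![8, 12, 16, 24, 20, 15, 10, 5], ![6, 9, 12, 18, 15, 12, 8, 4],
    ![4, 6, 8, 12, 10, 8, 6, 3], ![2, 3, 4, 6, 5, 4, 3, 2]]

/-- the simple roots -/
def simp8 : Fin 8 → Fin 240 := ![162, 141, 135, 130, 126, 123, 121, 120]

theorem invC_mul : ∀ k i : Fin 8,
    ∑ j : Fin 8, invC k j * ((car chevE8 i.val (simp8 j).val : ℤ) : ZMod 3) = if k = i then 1 else 0 := by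
  decide +kernel

section General

variable {F : Type*} [Field F] (D : ChevalleyDatum)

theorem row_inl (r s : Fin D.nroots) (hs : s.val = D.negIdx.getD r.val 0) (hne : s ≠ r) (i : Fin D.rank)
    {v : D.Idx → F} (h : (D.xMat F r 1).mulVec v = v) : (cor D r.val i.val : F) * v (Sum.inr s) = 0 := by
  have h3 := congrFun h (Sum.inl i)
  rw [Matrix.mulVec, dotProduct, Fintype.sum_sum_type] at h3
  have h4 : ∑ j : Fin D.rank, D.xMat F r 1 (Sum.inl i) (Sum.inl j) * v (Sum.inl j) = v (Sum.inl i) := by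
    rw [Finset.sum_eq_single i]
    · rw [xMat_inl_inl, if_pos rfl, one_mul]
    · intro j _ hj
      rw [xMat_inl_inl, if_neg (Ne.symm hj), zero_mul]
    · intro h; exact absurd (Finset.mem_univ _) h
  have h5 : ∑ u : Fin D.nroots, D.xMat F r 1 (Sum.inl i) (Sum.inr u) * v (Sum.inr u) =
      (cor D r.val i.val : F) * v (Sum.inr s) := by
    rw [Finset.sum_eq_single s]
    · rw [xMat_inl_inr, if_neg hne, if_pos hs, mul_one]
    · intro u _ hu
      rw [xMat_inl_inr]
      split_ifs with ha hb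
      · rw [zero_mul]
      · exact absurd (Fin.ext (hb.trans hs.symm)) hu
      · rw [zero_mul]
    · intro h; exact absurd (Finset.mem_univ _) h
  rw [h4, h5] at h3
  have := sub_eq_zero.2 h3
  rwa [add_sub_cancel_left] at this

theorem row_inr (r : Fin D.nroots) {v : D.Idx → F} (h : (D.xMat F r 1).mulVec v = v)
    (hz : ∀ s, v (Sum.inr s) = 0) : ∑ i : Fin D.rank, (car D i.val r.val : F) * v (Sum.inl i) = 0 := by
  have h3 := congrFun h (Sum.inr r)
  rw [Matrix.mulVec, dotProduct, Fintype.sum_sum_type, hz] at h3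
  simp only [hz, mul_zero, Finset.sum_const_zero, add_zero, xMat_inr_inl, if_true, mul_one, neg_mul,
    Finset.sum_neg_distrib, neg_eq_zero] at h3
  exact h3

end General

theorem fixed_zero (v : chevE8.Idx → ZMod 3)
    (hv : ∀ g ∈ chevE8.group (ZMod 3), (g : Matrix chevE8.Idx chevE8.Idx (ZMod 3)).mulVec v = v) : v = 0 := by
  have h1 : ∀ (r : Fin chevE8.nroots) (t : ZMod 3), (chevE8.xMat (ZMod 3) r t).mulVec v = v := by
    intro r t
    have := hv _ (xG_mem r t)
    rwa [coe_xG, x_of_lt r.isLt] at this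
  -- the root coordinates
  have h2 : ∀ s : Fin chevE8.nroots, v (Sum.inr s) = 0 := by
    intro s
    obtain ⟨hs, hne, i, hi⟩ := coroot_ne s
    exact (mul_eq_zero.1 (row_inl chevE8 (Fin.rev s) s hs hne i (h1 _ 1))).resolve_left hi
  -- the Cartan coordinates
  have h7 : ∀ r : Fin 240, ∑ i : Fin 8, ((car chevE8 i.val r.val : ℤ) : ZMod 3) * v (Sum.inl i) = 0 :=
    fun r => row_inr chevE8 r (h1 r 1) h2
  have h8 : ∀ k : Fin 8, v (Sum.inl k) = 0 := by
    obtain ⟨w, hw⟩ : ∃ w : Fin 8 → ZMod 3, ∀ i : Fin 8, v (Sum.inl i) = w i := ⟨fun i => v (Sum.inl i), fun _ => rfl⟩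
    have h7' : ∀ r : Fin 240, ∑ i : Fin 8, ((car chevE8 i.val r.val : ℤ) : ZMod 3) * w i = 0 := by
      intro r
      rw [← h7 r]
      exact Finset.sum_congr rfl fun i _ => by rw [hw]
    intro k
    rw [hw]
    have h9 : ∑ j : Fin 8, invC k j * (∑ i : Fin 8, ((car chevE8 i.val (simp8 j).val : ℤ) : ZMod 3) * w i) = 0 :=
      Finset.sum_eq_zero fun j _ => by rw [h7', mul_zero]
    have h11 : ∑ j : Fin 8, invC k j * (∑ i : Fin 8, ((car chevE8 i.val (simp8 j).val : ℤ) : ZMod 3) * w i) =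
        ∑ i : Fin 8, (∑ j : Fin 8, invC k j * ((car chevE8 i.val (simp8 j).val : ℤ) : ZMod 3)) * w i := by
      simp only [Finset.mul_sum, Finset.sum_mul]
      rw [Finset.sum_comm]
      exact Finset.sum_congr rfl fun i _ => Finset.sum_congr rfl fun j _ => (mul_assoc _ _ _).symm
    rw [h11] at h9
    simp only [invC_mul, ite_mul, one_mul, zero_mul, Finset.sum_ite_eq, Finset.mem_univ, if_true] at h9
    exact h9
  funext w
  rcases w with i | s
  · exact h8 i
  · exact h2 s

end Cfsg.Agent.H834.E8
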